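import Groth.Prelude.Def_EtAcyc
import Groth.Agent.EtSh.Stalks
import Mathlib.CategoryTheory.Sites.EpiMono
import Mathlib.Algebra.Homology.DerivedCategory.Ext.Map
import Mathlib.Algebra.Homology.DerivedCategory.Ext.ExactSequences

/-!
# Diagram chase for the cohomological comparison
-/

set_option autoImplicit false
set_option backward.isDefEq.respectTransparency.types false

universe u

open CategoryTheory CategoryTheory.Limits AlgebraicGeometry Opposite Abelian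

namespace Groth.Agent.EtAcycLib

theorem isLTorsion_of_epi {X : Scheme.{u}} {L : Set ℕ} {F G : EtCoh.Ab X} (p : F ⟶ G) [Epi p]
    (hF : EtAcyc.IsLTorsion L F) : EtAcyc.IsLTorsion L G := by
  intro U s x
  haveI : Sheaf.IsLocallySurjective p := (Sheaf.isLocallySurjective_iff_epi' (φ := p)).2 ‹_›
  obtain ⟨W, g, w, ⟨t, ht⟩, rfl⟩ := (EtSh.mem_topology_iff _).1
    (Presheaf.imageSieve_mem X.smallEtaleTopology p.hom (U := op U) s) x
  obtain ⟨V, k, m, ⟨v, hv⟩, hm, hz⟩ := hF W t w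
  refine ⟨V, k ≫ g, m, ⟨v, ?_⟩, hm, ?_⟩
  · show (k.left ≫ g.left).base v = g.left.base w
    rw [Scheme.Hom.comp_apply, hv]
  · rw [op_comp, Functor.map_comp, ConcreteCategory.comp_apply, ← ht, ← NatTrans.naturality_apply p.hom,
      ← map_nsmul, hz, map_zero]

variable {X Y : Scheme.{u}} (h : Y ⟶ X) [PreservesFiniteLimits (EtCoh.pull h)]

theorem Hpull_comp_mk₀ {F G : EtCoh.Ab X} (u : F ⟶ G) (n : ℕ) (e : EtCoh.H X F n) :
    EtCore.Hpull h G n (e.comp (Ext.mk₀ u) (add_zero n)) =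
      (EtCore.Hpull h F n e).comp (Ext.mk₀ ((EtCoh.pull h).map u)) (add_zero n) := by
  show (Ext.mk₀ (EtCore.pullConst h ℤ).inv).comp
      ((e.comp (Ext.mk₀ u) (add_zero n)).mapExactFunctor (EtCoh.pull h)) (zero_add n) =
    ((Ext.mk₀ (EtCore.pullConst h ℤ).inv).comp (e.mapExactFunctor (EtCoh.pull h)) (zero_add n)).comp
      (Ext.mk₀ ((EtCoh.pull h).map u)) (add_zero n)
  rw [Ext.mapExactFunctor_comp, Ext.mapExactFunctor_mk₀, Ext.comp_assoc_of_third_deg_zero]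

theorem Hpull_extClass {S : ShortComplex (EtCoh.Ab X)} (hS : S.ShortExact) (n : ℕ) (e : EtCoh.H X S.X₃ n) :
    EtCore.Hpull h S.X₁ (n + 1) (e.comp hS.extClass rfl) =
      (EtCore.Hpull h S.X₃ n e).comp (hS.map_of_exact (EtCoh.pull h)).extClass rfl := by
  show (Ext.mk₀ (EtCore.pullConst h ℤ).inv).comp
      ((e.comp hS.extClass rfl).mapExactFunctor (EtCoh.pull h)) (zero_add (n + 1)) =
    ((Ext.mk₀ (EtCore.pullConst h ℤ).inv).comp (e.mapExactFunctor (EtCoh.pull h)) (zero_add n)).comp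
      (hS.map_of_exact (EtCoh.pull h)).extClass rfl
  rw [Ext.mapExactFunctor_comp, Ext.mapExactFunctor_extClass]
  exact (Ext.comp_assoc _ _ _ _ _ (by omega)).symm

theorem mem_range_Hpull {L : Set ℕ} {n : ℕ} (hc : EtAcyc.CompN h L n) {F G : EtCoh.Ab X} (u : F ⟶ G) [Mono u]
    (hF : EtAcyc.IsLTorsion L F) (hG : EtAcyc.IsLTorsion L G)
    (ξ : EtCoh.H Y ((EtCoh.pull h).obj F) (n + 1))
    (hξ : (EtCoh.HF Y (n + 1)).map ((EtCoh.pull h).map u) ξ ∈ Set.range (EtCore.Hpull h G (n + 1))) :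
    ξ ∈ Set.range (EtCore.Hpull h F (n + 1)) := by
  let S : ShortComplex (EtCoh.Ab X) := ShortComplex.mk u (cokernel.π u) (cokernel.condition u)
  have hS : S.ShortExact := { exact := ShortComplex.exact_cokernel u }
  have hS' := hS.map_of_exact (EtCoh.pull h)
  have hQ : EtAcyc.IsLTorsion L (cokernel u) := isLTorsion_of_epi (cokernel.π u) hG
  obtain ⟨η, hη⟩ := hξ
  change EtCore.Hpull h G (n + 1) η = ξ.comp (Ext.mk₀ ((EtCoh.pull h).map u)) (add_zero (n + 1)) at hη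
  have h0 : η.comp (Ext.mk₀ (cokernel.π u)) (add_zero (n + 1)) = 0 := by
    refine (hc _ hQ).2 ?_
    rw [map_zero, Hpull_comp_mk₀, hη, Ext.comp_assoc_of_third_deg_zero, Ext.mk₀_comp_mk₀, ← Functor.map_comp,
      cokernel.condition, Functor.map_zero, Ext.mk₀_zero, Ext.comp_zero]
  obtain ⟨ζ, hζ⟩ := Ext.covariant_sequence_exact₂ _ hS η h0
  have h1 : (ξ - EtCore.Hpull h F (n + 1) ζ).comp (Ext.mk₀ ((EtCoh.pull h).map u)) (add_zero (n + 1)) = 0 := by
    have h2 : (EtCore.Hpull h F (n + 1) ζ).comp (Ext.mk₀ ((EtCoh.pull h).map u)) (add_zero (n + 1)) =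
        ξ.comp (Ext.mk₀ ((EtCoh.pull h).map u)) (add_zero (n + 1)) := by
      rw [← Hpull_comp_mk₀, ← hη]
      exact congrArg _ hζ
    rw [sub_eq_add_neg, Ext.add_comp, Ext.neg_comp, h2, add_neg_cancel]
  obtain ⟨ω, hω⟩ := Ext.covariant_sequence_exact₁ _ hS' _ h1 (n₀ := n) rfl
  obtain ⟨ω', rfl⟩ := ((hc _ hQ).1 n le_rfl).2 ω
  refine ⟨ζ + ω'.comp hS.extClass rfl, ?_⟩
  rw [map_add, Hpull_extClass h hS n ω']
  exact (congrArg _ hω).trans (add_sub_cancel _ _)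

end Groth.Agent.EtAcycLib
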