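import Groth.Agent.EtShSet.Stalks
import Groth.Agent.FpqcDescent.Specialization
import Groth.Prelude.Def_EtAcyc
import Mathlib.CategoryTheory.Adjunction.FullyFaithful

/-!
# `(-1)`-acyclic morphisms and surjectivity
-/

set_option autoImplicit false
set_option linter.style.haveILetI false
set_option backward.isDefEq.respectTransparency false
set_option backward.isDefEq.respectTransparency.types false

universe u

open CategoryTheory CategoryTheory.Limits AlgebraicGeometry Opposite

namespace Groth.Agent.EtAcycLib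

open Groth.Agent.EtShSet
open Groth.Agent.EtSh (Fib fpt hom_fpt mem_topology_iff)

variable {X Y : Scheme.{u}}

theorem isMinusOneAcyclic_of_surjective (g : X ⟶ Y) (hg : Function.Surjective g.base) :
    EtAcyc.IsMinusOneAcyclic g := by
  intro V F
  haveI : Surjective g := ⟨hg⟩
  haveI : Surjective (EtAcyc.prj g V) := MorphismProperty.pullback_fst (P := @Surjective) _ _ ‹_›
  haveI := pullSh_faithful (EtAcyc.prj g V)
  infer_instance

variable (C : Set Y)

/-- Closed subsets lying over `C`. -/
def closedOver : (Y.Etale)ᵒᵖ ⥤ Type (u + 1) where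
  obj W := ULift.{u + 1} {A : Set W.unop.left // A ⊆ W.unop.hom.base ⁻¹' C ∧ IsClosed A}
  map {W W'} k := TypeCat.ofHom fun A => ⟨⟨k.unop.left.base ⁻¹' A.down.1, fun x hx => by
      have := A.down.2.1 hx
      rw [Set.mem_preimage, ← MorphismProperty.Over.w k.unop]; exact this,
    A.down.2.2.preimage k.unop.left.continuous⟩⟩
  map_id W := ConcreteCategory.hom_ext _ _ fun A => rfl
  map_comp k l := ConcreteCategory.hom_ext _ _ fun A => rfl

theorem isSheaf_closedOver : Presieve.IsSheaf Y.smallEtaleTopology (closedOver C) := by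
  intro T S hS x hx
  let A : Set T.left := {p | ∃ (W : Y.Etale) (a : W ⟶ T) (ha : S a) (w : W.left),
    w ∈ (x a ha).down.1 ∧ a.left.base w = p}
  have key : ∀ (W : Y.Etale) (a : W ⟶ T) (ha : S a) (w : W.left), a.left.base w ∈ A → w ∈ (x a ha).down.1 := by
    rintro W a ha w ⟨W', a', ha', w', hw', e⟩
    obtain ⟨z, hz, hz'⟩ := Scheme.Pullback.exists_preimage_pullback (f := a.left) (g := a'.left) w w' e.symm
    haveI : Etale T.hom := T.prop
    haveI : Etale W.hom := W.prop
    haveI : Etale W'.hom := W'.prop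
    haveI : Etale (a.left ≫ T.hom) := by rw [MorphismProperty.Over.w a]; infer_instance
    haveI : Etale (a'.left ≫ T.hom) := by rw [MorphismProperty.Over.w a']; infer_instance
    haveI : Etale a'.left := Etale.of_comp a'.left T.hom
    haveI : Etale a.left := Etale.of_comp a.left T.hom
    let P : Y.Etale := Scheme.Etale.mk (pullback.fst a.left a'.left ≫ W.hom)
    let p : P ⟶ W := MorphismProperty.Over.homMk (pullback.fst a.left a'.left) rfl
    let q : P ⟶ W' := MorphismProperty.Over.homMk (pullback.snd a.left a'.left) (by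
      show pullback.snd a.left a'.left ≫ W'.hom = pullback.fst a.left a'.left ≫ W.hom
      rw [← MorphismProperty.Over.w a', ← MorphismProperty.Over.w a, pullback.condition_assoc])
    have h1 := hx p q ha ha' (MorphismProperty.Over.Hom.ext pullback.condition)
    have h2 : p.left.base ⁻¹' (x a ha).down.1 = q.left.base ⁻¹' (x a' ha').down.1 :=
      congrArg (fun B => B.down.1) h1
    have h3 : z ∈ q.left.base ⁻¹' (x a' ha').down.1 := by
      show (pullback.snd a.left a'.left).base z ∈ (x a' ha').down.1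
      rw [hz']; exact hw'
    rw [← h2] at h3
    change (pullback.fst a.left a'.left).base z ∈ (x a ha).down.1 at h3
    rwa [hz] at h3
  have hsub : A ⊆ T.hom.base ⁻¹' C := by
    rintro _ ⟨W, a, ha, w, hw, rfl⟩
    have := (x a ha).down.2.1 hw
    rw [← MorphismProperty.Over.w a] at this
    exact this
  have hcl : IsClosed A := by
    rw [← isOpen_compl_iff, isOpen_iff_forall_mem_open]
    intro p hp
    obtain ⟨W, a, w, ha, rfl⟩ := (mem_topology_iff S).1 hS p
    haveI : Etale T.hom := T.prop
    haveI : Etale (a.left ≫ T.hom) := by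
      have : Etale W.hom := W.prop
      rw [MorphismProperty.Over.w a]; exact this
    haveI : Etale a.left := Etale.of_comp a.left T.hom
    refine ⟨a.left.base '' ((x a ha).down.1)ᶜ, ?_,
      a.left.isOpenMap _ (x a ha).down.2.2.isOpen_compl, ⟨w, fun hw => hp ⟨W, a, ha, w, hw, rfl⟩, rfl⟩⟩
    rintro _ ⟨v, hv, rfl⟩ hA
    exact hv (key W a ha v hA)
  refine ⟨⟨⟨A, hsub, hcl⟩⟩, fun W a ha => ?_, fun B hB => ?_⟩
  · exact ULift.ext _ _ (Subtype.ext (Set.ext fun w => ⟨key W a ha w, fun hw => ⟨W, a, ha, w, hw, rfl⟩⟩))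
  · refine ULift.ext _ _ (Subtype.ext (Set.ext fun p => ?_))
    obtain ⟨W, a, w, ha, rfl⟩ := (mem_topology_iff S).1 hS p
    have h1 : a.left.base ⁻¹' B.down.1 = (x a ha).down.1 := congrArg (fun B => B.down.1) (hB a ha)
    exact ⟨fun hp => ⟨W, a, ha, w, h1 ▸ hp, rfl⟩, fun hp => (h1.symm ▸ key W a ha w hp : w ∈ a.left.base ⁻¹' B.down.1)⟩

/-- The sheaf of closed subsets lying over `C`. -/
def closedOverSh : EtDesc.Sh Y := ⟨closedOver C, (isSheaf_iff_isSheaf_of_type _ _).2 (isSheaf_closedOver C)⟩

/-- The endomorphism sending everything to the empty set. -/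
def toEmpty : closedOverSh C ⟶ closedOverSh C :=
  ⟨{ app := fun W => TypeCat.ofHom fun _ => ⟨⟨∅, Set.empty_subset _, isClosed_empty⟩⟩
     naturality := fun W W' k => ConcreteCategory.hom_ext _ _ fun A => rfl }⟩

theorem stalk_toEmpty {Ω : Type u} [Field Ω] [IsSepClosed Ω] (ξ : Spec (CommRingCat.of Ω) ⟶ Y)
    (h : ξ.base default ∉ C) : (stalk ξ).map (toEmpty C) = 𝟙 _ := by
  refine ConcreteCategory.hom_ext _ _ fun p => ?_
  obtain ⟨U, t, s, rfl⟩ := germ_surjective (closedOverSh C) p
  rw [stalk_map_germ]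
  refine (germ_eq_iff (closedOverSh C) t _ _).2 ?_
  have hs : fpt t ∉ s.down.1 := fun hts => h (by rw [← hom_fpt t]; exact s.down.2.1 hts)
  let O : U.left.Opens := ⟨(s.down.1)ᶜ, s.down.2.2.isOpen_compl⟩
  haveI : Etale U.hom := U.prop
  let W : Y.Etale := Scheme.Etale.mk (O.ι ≫ U.hom)
  refine ⟨W, MorphismProperty.Over.homMk O.ι rfl, ⟨fpt t, hs⟩, rfl, ULift.ext _ _ (Subtype.ext (Set.ext fun w => ?_))⟩
  exact ⟨fun hw => hw.elim, fun hw => absurd (show O.ι.base w ∈ s.down.1 from hw) w.2⟩

theorem surjective_of_isMinusOneAcyclic (g : X ⟶ Y) [QuasiCompact g] (h : EtAcyc.IsMinusOneAcyclic g) :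
    Function.Surjective g.base := by
  intro y
  by_contra hy
  -- a neighbourhood of `y` in which the image misses the closure of `y`
  let Z : TopologicalSpace.Closeds X := ⟨g.base ⁻¹' closure {y}, isClosed_closure.preimage g.continuous⟩
  let j := (Scheme.IdealSheafData.vanishingIdeal Z).subschemeι
  have hyc : y ∉ closure (Set.range (j ≫ g).base) := by
    intro hyc
    obtain ⟨z, hz⟩ := FpqcDescent.exists_specializes_of_mem_closure_range (j ≫ g) hyc
    have h1 : j.base z ∈ (Z : Set X) := by
      have : j.base z ∈ Set.range j.base := ⟨z, rfl⟩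
      rwa [Scheme.IdealSheafData.range_subschemeι, Scheme.IdealSheafData.coe_support_vanishingIdeal] at this
    have h2 : y ⤳ g.base (j.base z) := specializes_iff_mem_closure.2 h1
    rw [Scheme.Hom.comp_apply] at hz
    exact hy ⟨j.base z, (hz.antisymm h2).eq⟩
  let U : Y.Opens := ⟨(closure (Set.range (j ≫ g).base))ᶜ, isClosed_closure.isOpen_compl⟩
  let C : Set Y := (U : Set Y) ∩ closure {y}
  have himg : ∀ x : X, g.base x ∉ C := by
    rintro x ⟨hxU, hxy⟩
    refine hxU (subset_closure ?_)
    obtain ⟨z, hz⟩ : x ∈ Set.range j.base := by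
      rw [Scheme.IdealSheafData.range_subschemeι, Scheme.IdealSheafData.coe_support_vanishingIdeal]
      exact hxy
    exact ⟨z, by rw [Scheme.Hom.comp_apply, hz]⟩
  let V : Y.Etale := Scheme.Etale.mk (𝟙 Y)
  let p := EtAcyc.prj g V
  haveI : Mono ((EtDesc.adjSh p).unit.app (closedOverSh (Y := V.left) C)) := h V _
  have hpull : (EtDesc.pullSh p).map (toEmpty (Y := V.left) C) = (EtDesc.pullSh p).map (𝟙 _) := by
    refine hom_ext_points _ _ fun x => ⟨_, inferInstance, inferInstance, geomPt x, geomPt_default x, ?_⟩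
    rw [← cancel_mono ((stalkPullShIso p (geomPt x)).hom.app _)]
    refine ((stalkPullShIso p (geomPt x)).hom.naturality _).trans
      (Eq.trans ?_ ((stalkPullShIso p (geomPt x)).hom.naturality _).symm)
    refine congrArg (_ ≫ ·) ?_
    rw [CategoryTheory.Functor.map_id, stalk_toEmpty]
    rw [Scheme.Hom.comp_apply, geomPt_default]
    have e : p.base x = g.base ((pullback.snd V.hom g).base x) := by
      have h3 : p = pullback.snd V.hom g ≫ g := (Category.comp_id _).symm.trans pullback.condition
      rw [← Scheme.Hom.comp_apply, ← h3]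
      rfl
    rw [e]
    exact himg _
  have heq : toEmpty (Y := V.left) C = 𝟙 _ := by
    rw [← cancel_mono ((EtDesc.adjSh p).unit.app (closedOverSh (Y := V.left) C))]
    refine ((EtDesc.adjSh p).unit.naturality _).trans (Eq.trans ?_ ((EtDesc.adjSh p).unit.naturality _).symm)
    exact congrArg (_ ≫ ·) (congrArg (EtDesc.pushSh p).map hpull)
  let W : Y.Etale := Scheme.Etale.mk U.ι
  let s : EtDesc.sect (closedOverSh C) W := ⟨⟨U.ι.base ⁻¹' closure {y}, fun w hw => ⟨w.2, hw⟩,
    isClosed_closure.preimage U.ι.continuous⟩⟩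
  have h4 : (∅ : Set W.left) = U.ι.base ⁻¹' closure {y} :=
    congrArg (fun φ : closedOverSh C ⟶ closedOverSh C => (φ.hom.app (op W) s).down.1) heq
  have h5 : (⟨y, hyc⟩ : U) ∈ (∅ : Set W.left) := h4 ▸ (subset_closure rfl : y ∈ closure ({y} : Set Y))
  exact h5

end Groth.Agent.EtAcycLib
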